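import Groth.Agent.RatMapLib.Unique
import Groth.Agent.SpreadLib.Basic

/-!
# Spreading out morphisms and isomorphisms from local rings
-/

set_option autoImplicit false
set_option backward.isDefEq.respectTransparency false
set_option backward.defeqAttrib.useBackward true
set_option linter.style.haveILetI false

universe u

open CategoryTheory AlgebraicGeometry TopologicalSpace Opposite

namespace Groth.Agent.SpreadOut

variable {S X Y : Scheme.{u}}

/-- Lifting a map from a finitely presented algebra to a local ring to sections near the point. -/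
theorem exists_lift_of_finitePresentation {R A : CommRingCat.{u}} {U : X.Opens} {x : X}
    (hxU : x ∈ U) (φ : A ⟶ X.presheaf.stalk x) (φRA : R ⟶ A) (φRX : R ⟶ Γ(X, U))
    (hφRA : RingHom.FinitePresentation φRA.hom)
    (e : φRA ≫ φ = φRX ≫ X.presheaf.germ U x hxU) :
    ∃ (V : X.Opens) (hxV : x ∈ V) (φ' : A ⟶ Γ(X, V)) (i : V ≤ U), IsAffineOpen V ∧
      φ = φ' ≫ X.presheaf.germ V x hxV ∧ φRX ≫ X.presheaf.map i.hom.op = φRA ≫ φ' := by
  obtain ⟨_, ⟨W : X.Opens, (hW : IsAffineOpen W), rfl⟩, hxW, hWU⟩ :=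
    X.isBasis_affineOpens.exists_subset_of_mem_open (a := x) (u := ↑U) hxU U.2
  let P := (hW.primeIdealOf ⟨x, hxW⟩).asIdeal
  let O := X.presheaf.stalk x
  letI : Algebra R A := φRA.hom.toAlgebra
  haveI : Algebra.FinitePresentation R A := hφRA
  letI : Algebra R Γ(X, W) := (φRX ≫ X.presheaf.map (homOfLE hWU).op).hom.toAlgebra
  letI : Algebra Γ(X, W) O := TopCat.Presheaf.algebra_section_stalk X.presheaf ⟨x, hxW⟩
  haveI := hW.isLocalization_stalk ⟨x, hxW⟩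
  let eP : O ≃ₐ[Γ(X, W)] Localization.AtPrime P := IsLocalization.algEquiv P.primeCompl _ _
  have hres : ∀ r : R, φ (φRA r) = algebraMap Γ(X, W) O (algebraMap R Γ(X, W) r) := fun r => by
    rw [← CommRingCat.comp_apply, e]
    show X.presheaf.germ U x hxU (φRX r) =
      X.presheaf.germ W x hxW (X.presheaf.map (homOfLE hWU).op (φRX r))
    exact (X.presheaf.germ_res_apply (homOfLE hWU : W ⟶ U) x hxW (φRX r)).symm
  let f : A →ₐ[R] Localization.AtPrime P :=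
    { eP.toRingEquiv.toRingHom.comp φ.hom with
      commutes' := fun r => by
        show eP (φ (φRA r)) = algebraMap R (Localization.AtPrime P) r
        rw [hres, eP.commutes, ← IsScalarTower.algebraMap_apply] }
  obtain ⟨g, hg, ψ, hψ⟩ := SpreadLib.exists_lift_away P f
  have hxV : x ∈ X.basicOpen g := by
    have h := SetLike.ext_iff.mp (hW.fromSpec_preimage_basicOpen g) (hW.primeIdealOf ⟨x, hxW⟩)
    rw [Scheme.Hom.mem_preimage, hW.fromSpec_primeIdealOf] at h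
    exact h.mpr hg
  letI : Algebra Γ(X, W) Γ(X, X.basicOpen g) :=
    (X.presheaf.map (homOfLE (X.basicOpen_le g)).op).hom.toAlgebra
  haveI : IsLocalization.Away g Γ(X, X.basicOpen g) := hW.isLocalization_basicOpen g
  let eV : Localization.Away g ≃ₐ[Γ(X, W)] Γ(X, X.basicOpen g) :=
    IsLocalization.algEquiv (Submonoid.powers g) _ _
  let gm : Γ(X, X.basicOpen g) →ₐ[Γ(X, W)] O :=
    { (X.presheaf.germ (X.basicOpen g) x hxV).hom with
      commutes' := fun a => X.presheaf.germ_res_apply _ _ _ a }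
  refine ⟨X.basicOpen g, hxV, CommRingCat.ofHom (eV.toRingEquiv.toRingHom.comp ψ.toRingHom),
    (X.basicOpen_le g).trans hWU, hW.basicOpen g, ?_, ?_⟩
  · ext a
    have h := hψ ((eP.toAlgHom.comp gm).comp eV.toAlgHom) a
    exact (eP.injective h).symm
  · ext r
    show X.presheaf.map _ (φRX r) = eV (ψ (algebraMap R A r))
    rw [ψ.commutes, IsScalarTower.algebraMap_apply R Γ(X, W) (Localization.Away g), eV.commutes]
    show X.presheaf.map _ (φRX r) =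
      X.presheaf.map (homOfLE (X.basicOpen_le g)).op (X.presheaf.map (homOfLE hWU).op (φRX r))
    exact ConcreteCategory.congr_hom (X.presheaf.map_comp (homOfLE hWU : W ⟶ U).op
      (homOfLE (X.basicOpen_le g)).op) (φRX r)

variable (sX : X ⟶ S) (sY : Y ⟶ S)

/-- A morphism from a local ring to a scheme of finite presentation spreads out. -/
theorem spread_out [LocallyOfFinitePresentation sY] {x : X} {y : Y} (e : sX x = sY y)
    (φ : Y.presheaf.stalk y ⟶ X.presheaf.stalk x)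
    (h : sY.stalkMap y ≫ φ =
      S.presheaf.stalkSpecializes (Inseparable.of_eq e).specializes ≫ sX.stalkMap x) :
    ∃ (U : X.Opens) (hxU : x ∈ U) (f : U.toScheme ⟶ Y),
      Spec.map φ ≫ Y.fromSpecStalk y = U.fromSpecStalkOfMem x hxU ≫ f ∧
      f ≫ sY = U.ι ≫ sX := by
  obtain ⟨_, ⟨U, hU, rfl⟩, hxU, -⟩ :=
    S.isBasis_affineOpens.exists_subset_of_mem_open (Set.mem_univ (sX x)) isOpen_univ
  have hyU : sY y ∈ U := e ▸ hxU
  obtain ⟨_, ⟨V : Y.Opens, hV, rfl⟩, hyV, iVU⟩ :=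
    Y.isBasis_affineOpens.exists_subset_of_mem_open hyU (sY ⁻¹ᵁ U).2
  have : sY.appLE U V iVU ≫ Y.presheaf.germ V y hyV ≫ φ =
      sX.app U ≫ X.presheaf.germ (sX ⁻¹ᵁ U) x hxU := by
    rw [Scheme.Hom.appLE, Category.assoc, Y.presheaf.germ_res_assoc,
      ← Scheme.Hom.germ_stalkMap_assoc, h]
    simp
  obtain ⟨W, hxW, φ', i, hW, h₁, h₂⟩ :=
    exists_lift_of_finitePresentation (R := Γ(S, U)) (A := Γ(Y, V)) (U := sX ⁻¹ᵁ U) (x := x) hxU
    (Y.presheaf.germ _ y hyV ≫ φ) (sY.appLE U V iVU) (sX.app U)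
    (sY.finitePresentation_appLE hU hV _) this
  refine ⟨W, hxW, W.toSpecΓ ≫ Spec.map φ' ≫ hV.fromSpec, ?_, ?_⟩
  · rw [W.fromSpecStalkOfMem_toSpecΓ_assoc x hxW, ← Spec.map_comp_assoc, ← h₁,
      Spec.map_comp, Category.assoc, ← IsAffineOpen.fromSpecStalk,
      IsAffineOpen.fromSpecStalk_eq_fromSpecStalk]
  · simp only [Category.assoc]
    rw [← IsAffineOpen.SpecMap_appLE_fromSpec sY hU hV iVU, ← Spec.map_comp_assoc, ← h₂,
      ← Scheme.Hom.appLE, ← hW.isoSpec_hom, IsAffineOpen.SpecMap_appLE_fromSpec sX hU hW i,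
      ← Iso.eq_inv_comp, IsAffineOpen.isoSpec_inv_ι_assoc]

/-- Variant of `spread_out` for a morphism from the spectrum of a local ring. -/
theorem spread_out' [LocallyOfFinitePresentation sY] {x : X}
    (φ : Spec (X.presheaf.stalk x) ⟶ Y) (h : φ ≫ sY = X.fromSpecStalk x ≫ sX) :
    ∃ (U : X.Opens) (hxU : x ∈ U) (f : U.toScheme ⟶ Y),
      φ = U.fromSpecStalkOfMem x hxU ≫ f ∧ f ≫ sY = U.ι ≫ sX := by
  have := spread_out sX sY ?_ (Scheme.stalkClosedPointTo φ) ?_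
  · simpa only [Scheme.Spec_stalkClosedPointTo_fromSpecStalk] using this
  · rw [← Scheme.Hom.comp_apply, h, Scheme.Hom.comp_apply, Scheme.fromSpecStalk_closedPoint]
  · apply Spec.map_injective
    rw [← cancel_mono (S.fromSpecStalk _)]
    simpa only [Spec.map_comp, Category.assoc, Scheme.SpecMap_stalkMap_fromSpecStalk,
      Scheme.Spec_stalkClosedPointTo_fromSpecStalk_assoc,
      Scheme.SpecMap_stalkSpecializes_fromSpecStalk]

lemma apply_of_fromSpecStalk {U : X.Opens} {x : X} (hx : x ∈ U) (φ : (U : Scheme.{u}) ⟶ Y) {y : Y}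
    (e : Y.presheaf.stalk y ⟶ X.presheaf.stalk x) [IsLocalHom e.hom]
    (h : Spec.map e ≫ Y.fromSpecStalk y = U.fromSpecStalkOfMem x hx ≫ φ) : φ ⟨x, hx⟩ = y := by
  have h1 := congr($h (IsLocalRing.closedPoint _))
  have h2 : U.ι (U.fromSpecStalkOfMem x hx (IsLocalRing.closedPoint _)) = U.ι ⟨x, hx⟩ := by
    rw [← Scheme.Hom.comp_apply, Scheme.Opens.fromSpecStalkOfMem_ι,
      Scheme.fromSpecStalk_closedPoint]
    rfl
  rw [Scheme.Hom.comp_apply, Scheme.Hom.comp_apply, U.ι.isOpenEmbedding.injective h2] at h1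
  rw [← h1, show Spec.map e (IsLocalRing.closedPoint _) = IsLocalRing.closedPoint _ from
    IsLocalRing.comap_closedPoint e.hom, Scheme.fromSpecStalk_closedPoint]

/-- If a composite agrees with the inclusion on a local ring, it does so near the point. -/
theorem exists_inverse_nhd [LocallyOfFiniteType sX] {x : X} {y : Y}
    (e : X.presheaf.stalk x ≅ Y.presheaf.stalk y)
    {U : X.Opens} (hx : x ∈ U) (φ : (U : Scheme.{u}) ⟶ Y) (hφS : φ ≫ sY = U.ι ≫ sX)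
    (hφ : Spec.map e.inv ≫ Y.fromSpecStalk y = U.fromSpecStalkOfMem x hx ≫ φ)
    {W : Y.Opens} (hy : y ∈ W) (ψ : (W : Scheme.{u}) ⟶ X) (hψS : ψ ≫ sX = W.ι ≫ sY)
    (hψ : Spec.map e.hom ≫ X.fromSpecStalk x = W.fromSpecStalkOfMem y hy ≫ ψ) :
    ∃ (O : X.Opens) (hO : O ≤ U) (m : (O : Scheme.{u}) ⟶ W),
      x ∈ O ∧ m ≫ W.ι = X.homOfLE hO ≫ φ ∧ m ≫ ψ = O.ι := by
  let U₁ : (U : Scheme.{u}).Opens := φ ⁻¹ᵁ W
  have hp : (⟨x, hx⟩ : U) ∈ U₁ := by
    show φ ⟨x, hx⟩ ∈ W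
    rw [apply_of_fromSpecStalk hx φ e.inv hφ]
    exact hy
  let p : U₁ := ⟨⟨x, hx⟩, hp⟩
  let a := φ ∣_ W ≫ ψ
  let b := U₁.ι ≫ U.ι
  have hab : a ≫ sX = b ≫ sX := by
    simp only [a, b, Category.assoc, hψS, morphismRestrict_ι_assoc, hφS]
    rfl
  have hst : U₁.toScheme.fromSpecStalk p ≫ a = U₁.toScheme.fromSpecStalk p ≫ b := by
    let κ : Spec (X.presheaf.stalk x) ⟶ Spec (U₁.toScheme.presheaf.stalk p) :=
      Spec.map (inv (b.stalkMap p))
    have hκ : κ ≫ U₁.toScheme.fromSpecStalk p ≫ b = X.fromSpecStalk x := by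
      rw [← Scheme.SpecMap_stalkMap_fromSpecStalk, ← Spec.map_comp_assoc, IsIso.hom_inv_id,
        Spec.map_id]
      exact Category.id_comp _
    rw [← cancel_epi κ, hκ]
    have hκU : κ ≫ U₁.toScheme.fromSpecStalk p ≫ U₁.ι = U.fromSpecStalkOfMem x hx := by
      rw [← cancel_mono U.ι, Scheme.Opens.fromSpecStalkOfMem_ι, Category.assoc, Category.assoc]
      exact hκ
    have hm : κ ≫ U₁.toScheme.fromSpecStalk p ≫ φ ∣_ W =
        Spec.map e.inv ≫ W.fromSpecStalkOfMem y hy := by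
      rw [← cancel_mono W.ι, Category.assoc, Category.assoc, morphismRestrict_ι, Category.assoc,
        Scheme.Opens.fromSpecStalkOfMem_ι, hφ, ← hκU]
      simp only [Category.assoc]
      rfl
    rw [← Category.assoc (U₁.toScheme.fromSpecStalk p), ← Category.assoc, hm, Category.assoc, ← hψ,
      ← Spec.map_comp_assoc, Iso.hom_inv_id, Spec.map_id, Category.id_comp]
  obtain ⟨O₀, hpO, hO⟩ := RatMapLib.exists_opens_eq_of_fromSpecStalk sX a b hab hst
  let j : (O₀ : Scheme.{u}) ⟶ X := O₀.ι ≫ b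
  have hjU : j.opensRange ≤ U := by
    rintro _ ⟨q, rfl⟩
    exact (U₁.ι (O₀.ι q)).2
  refine ⟨j.opensRange, hjU, j.isoOpensRange.inv ≫ O₀.ι ≫ φ ∣_ W, ⟨⟨p, hpO⟩, rfl⟩, ?_, ?_⟩
  · rw [← cancel_epi j.isoOpensRange.hom]
    have h3 : j.isoOpensRange.hom ≫ X.homOfLE hjU = O₀.ι ≫ U₁.ι := by
      rw [← cancel_mono U.ι, Category.assoc, Scheme.homOfLE_ι, Scheme.Hom.isoOpensRange_hom_ι,
        Category.assoc]
    rw [reassoc_of% h3]
    simp only [Category.assoc, Iso.hom_inv_id_assoc, morphismRestrict_ι]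
    rfl
  · rw [← cancel_epi j.isoOpensRange.hom, Scheme.Hom.isoOpensRange_hom_ι]
    simp only [Category.assoc, Iso.hom_inv_id_assoc]
    exact hO

/-- Mutually inverse germs of morphisms give isomorphic open neighbourhoods. -/
theorem exists_iso_nhds [LocallyOfFiniteType sX] [LocallyOfFiniteType sY] {x : X} {y : Y}
    (e : X.presheaf.stalk x ≅ Y.presheaf.stalk y)
    {U : X.Opens} (hx : x ∈ U) (φ : (U : Scheme.{u}) ⟶ Y) (hφS : φ ≫ sY = U.ι ≫ sX)
    (hφ : Spec.map e.inv ≫ Y.fromSpecStalk y = U.fromSpecStalkOfMem x hx ≫ φ)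
    {W : Y.Opens} (hy : y ∈ W) (ψ : (W : Scheme.{u}) ⟶ X) (hψS : ψ ≫ sX = W.ι ≫ sY)
    (hψ : Spec.map e.hom ≫ X.fromSpecStalk x = W.fromSpecStalkOfMem y hy ≫ ψ) :
    ∃ (U' : X.Opens) (W' : Y.Opens), x ∈ U' ∧ y ∈ W' ∧
      ∃ i : (U' : Scheme.{u}) ≅ W', i.hom ≫ W'.ι ≫ sY = U'.ι ≫ sX := by
  obtain ⟨O, hO, m, hxO, hm₁, hm₂⟩ := exists_inverse_nhd sX sY e hx φ hφS hφ hy ψ hψS hψ
  obtain ⟨P, hP, n, hyP, hn₁, hn₂⟩ := exists_inverse_nhd sY sX e.symm hy ψ hψS hψ hx φ hφS hφ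
  let U' : X.Opens := O.ι ''ᵁ ((X.homOfLE hO ≫ φ) ⁻¹ᵁ P)
  let W' : Y.Opens := P.ι ''ᵁ ((Y.homOfLE hP ≫ ψ) ⁻¹ᵁ O)
  have hU'O : U' ≤ O := O.ι_image_le _
  have hW'P : W' ≤ P := P.ι_image_le _
  let f₀ : (U' : Scheme.{u}) ⟶ Y := X.homOfLE (hU'O.trans hO) ≫ φ
  let g₀ : (W' : Scheme.{u}) ⟶ X := Y.homOfLE (hW'P.trans hP) ≫ ψ
  have memU : ∀ q : U', ∃ r : O, X.homOfLE hU'O q = r ∧ φ (X.homOfLE hO r) ∈ P := fun q => by
    obtain ⟨r, hr, hrq⟩ := q.2
    exact ⟨r, O.ι.isOpenEmbedding.injective (by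
      rw [← Scheme.Hom.comp_apply, Scheme.homOfLE_ι]; exact hrq.symm), hr⟩
  have memW : ∀ q : W', ∃ r : P, Y.homOfLE hW'P q = r ∧ ψ (Y.homOfLE hP r) ∈ O := fun q => by
    obtain ⟨r, hr, hrq⟩ := q.2
    exact ⟨r, P.ι.isOpenEmbedding.injective (by
      rw [← Scheme.Hom.comp_apply, Scheme.homOfLE_ι]; exact hrq.symm), hr⟩
  have hrf : Set.range f₀ ⊆ Set.range W'.ι := by
    rintro _ ⟨q, rfl⟩
    rw [Scheme.Opens.range_ι]
    obtain ⟨r, hr, hrP⟩ := memU q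
    refine ⟨⟨φ (X.homOfLE hO r), hrP⟩, ?_, ?_⟩
    · show ψ (Y.homOfLE hP ⟨φ (X.homOfLE hO r), hrP⟩) ∈ O
      have h1 : Y.homOfLE hP ⟨φ (X.homOfLE hO r), hrP⟩ = m r := W.ι.isOpenEmbedding.injective (by
        rw [← Scheme.Hom.comp_apply, Scheme.homOfLE_ι, ← Scheme.Hom.comp_apply m, hm₁,
          Scheme.Hom.comp_apply]
        rfl)
      rw [h1, ← Scheme.Hom.comp_apply, hm₂]
      exact r.2
    · show φ (X.homOfLE hO r) = φ (X.homOfLE (hU'O.trans hO) q)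
      rw [← hr, ← Scheme.homOfLE_homOfLE X hU'O hO, Scheme.Hom.comp_apply]
  have hrg : Set.range g₀ ⊆ Set.range U'.ι := by
    rintro _ ⟨q, rfl⟩
    rw [Scheme.Opens.range_ι]
    obtain ⟨r, hr, hrP⟩ := memW q
    refine ⟨⟨ψ (Y.homOfLE hP r), hrP⟩, ?_, ?_⟩
    · show φ (X.homOfLE hO ⟨ψ (Y.homOfLE hP r), hrP⟩) ∈ P
      have h1 : X.homOfLE hO ⟨ψ (Y.homOfLE hP r), hrP⟩ = n r := U.ι.isOpenEmbedding.injective (by
        rw [← Scheme.Hom.comp_apply, Scheme.homOfLE_ι, ← Scheme.Hom.comp_apply n, hn₁,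
          Scheme.Hom.comp_apply]
        rfl)
      rw [h1, ← Scheme.Hom.comp_apply, hn₂]
      exact r.2
    · show ψ (Y.homOfLE hP r) = ψ (Y.homOfLE (hW'P.trans hP) q)
      rw [← hr, ← Scheme.homOfLE_homOfLE Y hW'P hP, Scheme.Hom.comp_apply]
  let f := IsOpenImmersion.lift W'.ι f₀ hrf
  let g := IsOpenImmersion.lift U'.ι g₀ hrg
  have hfm : f ≫ Y.homOfLE (hW'P.trans hP) = X.homOfLE hU'O ≫ m := by
    rw [← cancel_mono W.ι, Category.assoc, Scheme.homOfLE_ι, IsOpenImmersion.lift_fac,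
      Category.assoc, hm₁, Scheme.homOfLE_homOfLE_assoc]
  have hgn : g ≫ X.homOfLE (hU'O.trans hO) = Y.homOfLE hW'P ≫ n := by
    rw [← cancel_mono U.ι, Category.assoc, Scheme.homOfLE_ι, IsOpenImmersion.lift_fac,
      Category.assoc, hn₁, Scheme.homOfLE_homOfLE_assoc]
  have hfg : f ≫ g = 𝟙 _ := by
    rw [← cancel_mono U'.ι, Category.assoc, IsOpenImmersion.lift_fac, Category.id_comp,
      reassoc_of% hfm, hm₂, Scheme.homOfLE_ι]
  have hgf : g ≫ f = 𝟙 _ := by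
    rw [← cancel_mono W'.ι, Category.assoc, IsOpenImmersion.lift_fac, Category.id_comp,
      reassoc_of% hgn, hn₂, Scheme.homOfLE_ι]
  have hφx := apply_of_fromSpecStalk hx φ e.inv hφ
  have hψy := apply_of_fromSpecStalk hy ψ e.hom hψ
  refine ⟨U', W', ⟨⟨x, hxO⟩, ?_, rfl⟩, ⟨⟨y, hyP⟩, ?_, rfl⟩, ⟨f, g, hfg, hgf⟩, ?_⟩
  · show φ (X.homOfLE hO ⟨x, hxO⟩) ∈ P
    rw [show X.homOfLE hO ⟨x, hxO⟩ = (⟨x, hx⟩ : U) from Subtype.ext (X.homOfLE_apply hO _), hφx]
    exact hyP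
  · show ψ (Y.homOfLE hP ⟨y, hyP⟩) ∈ O
    rw [show Y.homOfLE hP ⟨y, hyP⟩ = (⟨y, hy⟩ : W) from Subtype.ext (Y.homOfLE_apply hP _), hψy]
    exact hxO
  · simp only [f, IsOpenImmersion.lift_fac_assoc, f₀, Category.assoc, hφS, Scheme.homOfLE_ι_assoc]

end Groth.Agent.SpreadOut
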