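import Groth.Agent.SpreadOut.Basic

/-!
# Morphisms inducing isomorphisms at the generic points of the irreducible components
-/

set_option autoImplicit false
set_option backward.isDefEq.respectTransparency false
set_option backward.defeqAttrib.useBackward true
set_option linter.style.haveILetI false

universe u

open CategoryTheory CategoryTheory.Limits AlgebraicGeometry TopologicalSpace Topology

namespace Groth.Agent.SpreadOut

variable {X Y : Scheme.{u}}

/-- A point is a maximal point if its closure is an irreducible component. -/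
abbrev IsMaxPt (x : X) : Prop := closure {x} ∈ irreducibleComponents ↥X

lemma IsMaxPt.eq_of_specializes {x x' : X} (hx : IsMaxPt x) (h : x' ⤳ x) : x' = x := by
  refine (Specializes.antisymm h (specializes_iff_closure_subset.2 ?_)).eq
  exact hx.2 isIrreducible_singleton.closure (specializes_iff_closure_subset.1 h)

lemma exists_maxPt_specializes (z : X) : ∃ x : X, IsMaxPt x ∧ x ⤳ z := by
  obtain ⟨T, hT, hz⟩ := exists_mem_irreducibleComponents_subset_of_isIrreducible {z}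
    isIrreducible_singleton
  have hg := hT.1.isGenericPoint_genericPoint (isClosed_of_mem_irreducibleComponents T hT)
  exact ⟨hT.1.genericPoint, by rw [IsMaxPt, hg.def]; exact hT, hg.specializes (hz rfl)⟩

/-- The open set of points lying only on the component through `x`. -/
def onlyOn (hX : (irreducibleComponents ↥X).Finite) (x : X) : X.Opens :=
  ⟨(⋃ T ∈ irreducibleComponents ↥X \ {closure {x}}, T)ᶜ, by
    rw [isOpen_compl_iff]
    exact (hX.sdiff).isClosed_biUnion fun T hT => isClosed_of_mem_irreducibleComponents T hT.1⟩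

lemma mem_onlyOn {hX : (irreducibleComponents ↥X).Finite} {x z : X} :
    z ∈ onlyOn hX x ↔ ∀ x' : X, IsMaxPt x' → x' ⤳ z → closure {x'} = closure {x} := by
  show z ∈ (⋃ T ∈ irreducibleComponents ↥X \ {closure {x}}, T)ᶜ ↔ _
  simp only [Set.mem_compl_iff, Set.mem_iUnion, not_exists, Set.mem_sdiff, Set.mem_singleton_iff]
  refine ⟨fun h x' hx' hs => by_contra fun hne => h _ ⟨hx', hne⟩ hs.mem_closure, ?_⟩
  intro h T hT hzT
  have hg := hT.1.1.isGenericPoint_genericPoint (isClosed_of_mem_irreducibleComponents T hT.1)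
  exact hT.2 (hg.def.symm.trans (h _ (by rw [IsMaxPt, hg.def]; exact hT.1) (hg.specializes hzT)))

lemma IsMaxPt.mem_onlyOn {hX : (irreducibleComponents ↥X).Finite} {x : X} (hx : IsMaxPt x) :
    x ∈ onlyOn hX x :=
  SpreadOut.mem_onlyOn.2 fun _ _ hs => by rw [hx.eq_of_specializes hs]

lemma eq_of_mem_onlyOn {hX : (irreducibleComponents ↥X).Finite} {x x' z : X}
    (hz : z ∈ onlyOn hX x) (hx' : IsMaxPt x') (hs : x' ⤳ z) : x' = x :=
  (IsGenericPoint.eq (S := closure {x}) (mem_onlyOn.1 hz x' hx' hs) rfl)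

lemma dense_of_maxPt_mem (U : X.Opens) (h : ∀ x : X, IsMaxPt x → x ∈ U) : Dense (U : Set X) :=
  fun z => by
    obtain ⟨x, hx, hs⟩ := exists_maxPt_specializes z
    exact hs.mem_closed isClosed_closure (subset_closure (h x hx))

/-- Points of the closure of the image of a closed set specialize from the image. -/
lemma exists_specializes_of_mem_closure_image (f : X ⟶ Y) [QuasiCompact f] {Z : Set X}
    (hZ : IsClosed Z) {y : Y} (hy : y ∈ closure (f '' Z)) : ∃ z ∈ Z, f z ⤳ y := by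
  obtain ⟨_, ⟨V, hV, rfl⟩, hyV, -⟩ :=
    Y.isBasis_affineOpens.exists_subset_of_mem_open (Set.mem_univ y) isOpen_univ
  obtain ⟨R, g, hg⟩ := AlgebraicGeometry.isCompact_iff_exists.1 (f.isCompact_preimage hV.isCompact)
  let h : Spec R ⟶ Spec Γ(Y, V) := IsOpenImmersion.lift hV.fromSpec (g ≫ f) (by
    rintro _ ⟨r, rfl⟩
    rw [hV.range_fromSpec]
    exact (hg.le ⟨r, rfl⟩ : g r ∈ f ⁻¹' V))
  have hh : ∀ r, hV.fromSpec (h r) = f (g r) := fun r => by
    rw [← Scheme.Hom.comp_apply, IsOpenImmersion.lift_fac, Scheme.Hom.comp_apply]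
  obtain ⟨y', rfl⟩ : y ∈ Set.range hV.fromSpec := by rwa [hV.range_fromSpec]
  have hy' : y' ∈ closure (h '' (g ⁻¹' Z)) := by
    rw [hV.fromSpec.isOpenEmbedding.isEmbedding.closure_eq_preimage_closure_image]
    show hV.fromSpec y' ∈ closure _
    rw [Set.image_image]
    simp only [hh]
    rw [← Set.image_image (g := f) (f := g), Set.image_preimage_eq_inter_range, hg]
    refine mem_closure_iff.2 fun O hO hyO => ?_
    obtain ⟨_, ⟨hwO, hwV⟩, z, hzZ, rfl⟩ :=
      mem_closure_iff.1 hy (O ∩ V) (hO.inter V.2) ⟨hyO, hyV⟩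
    exact ⟨f z, hwO, z, ⟨hzZ, hwV⟩, rfl⟩
  obtain ⟨φ, hφ⟩ := Spec.homEquiv.symm.surjective h
  obtain ⟨I, hI⟩ := (PrimeSpectrum.isClosed_iff_zeroLocus_ideal _).1 (hZ.preimage g.continuous)
  rw [hI, ← hφ] at hy'
  erw [PrimeSpectrum.closure_image_comap_zeroLocus] at hy'
  obtain ⟨q, hq₁, hq₂⟩ := Ideal.exists_minimalPrimes_le (show I.comap φ.hom ≤ y'.asIdeal from hy')
  obtain ⟨p, hp, hIp, hpq⟩ := Ideal.exists_comap_eq_of_mem_minimalPrimes φ.hom _ hq₁
  let r : Spec R := ⟨p, hp⟩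
  refine ⟨g r, (hI.ge hIp : r ∈ g ⁻¹' Z), ?_⟩
  rw [← hh, ← hφ]
  refine Specializes.map ((PrimeSpectrum.le_iff_specializes _ y').1 ?_) hV.fromSpec.continuous
  exact hpq.le.trans hq₂

/-- Over a maximal point with isomorphic local ring, the fibre is one point. -/
lemma eq_of_apply_eq_maxPt (f : X ⟶ Y) {x x' : X} {y : Y} (hy : IsMaxPt y)
    (hinj : ∀ x₁, IsMaxPt x₁ → f x₁ = y → x₁ = x) [IsIso (f.stalkMap x)] (hx' : f x' = y) :
    x' = x := by
  obtain ⟨x₀, hx₀, hs⟩ := exists_maxPt_specializes x'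
  obtain rfl := hinj x₀ hx₀ (hy.eq_of_specializes (hx' ▸ hs.map f.continuous))
  let σ := X.presheaf.stalkSpecializes hs
  have key : ∀ {a b : Y} (_ : a = b) (h : a ⤳ b), IsIso (Y.presheaf.stalkSpecializes h) := by
    rintro a b rfl h
    rw [TopCat.Presheaf.stalkSpecializes_refl]
    infer_instance
  have hiso := key ((hy.eq_of_specializes (hx' ▸ hs.map f.continuous)).trans hx'.symm)
    (hs.map f.continuous)
  haveI hsm := (ConcreteCategory.isIso_iff_bijective (f.stalkMap x₀)).1 inferInstance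
  have hsurj : Function.Surjective σ.hom := by
    intro t
    obtain ⟨r, hr⟩ := hsm.2 t
    have hcomp := Scheme.Hom.stalkSpecializes_stalkMap f x₀ x' hs
    obtain ⟨r', rfl⟩ := ((ConcreteCategory.isIso_iff_bijective
      (Y.presheaf.stalkSpecializes (hs.map f.continuous))).1 hiso).2 r
    exact ⟨f.stalkMap x' r', (congr($hcomp r')).symm.trans hr⟩
  have hc : Spec.map σ (IsLocalRing.closedPoint _) = IsLocalRing.closedPoint _ := by
    refine PrimeSpectrum.ext ?_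
    haveI := Ideal.comap_isMaximal_of_surjective σ.hom hsurj
      (K := IsLocalRing.maximalIdeal (X.presheaf.stalk x₀))
    exact IsLocalRing.eq_maximalIdeal this
  have h1 := congr($(Scheme.SpecMap_stalkSpecializes_fromSpecStalk hs) (IsLocalRing.closedPoint _))
  rwa [Scheme.Hom.comp_apply, hc, Scheme.fromSpecStalk_closedPoint,
    Scheme.fromSpecStalk_closedPoint] at h1

/-- The fibre over the local ring at a maximal point is that local ring. -/
lemma isIso_pullback_snd_fromSpecStalk (f : X ⟶ Y) {x : X} {y : Y} (hy : IsMaxPt y)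
    (hinj : ∀ x₁, IsMaxPt x₁ → f x₁ = y → x₁ = x) (hxy : f x = y) [IsIso (f.stalkMap x)] :
    IsIso (pullback.snd f (Y.fromSpecStalk y)) := by
  subst hxy
  let P := pullback f (Y.fromSpecStalk (f x))
  let a : P ⟶ X := pullback.fst _ _
  let b : P ⟶ Spec (Y.presheaf.stalk (f x)) := pullback.snd _ _
  have hab : a ≫ f = b ≫ Y.fromSpecStalk (f x) := pullback.condition
  have hpt : ∀ p : P, a p = x := fun p => by
    refine eq_of_apply_eq_maxPt f hy hinj ?_
    rw [← Scheme.Hom.comp_apply, hab, Scheme.Hom.comp_apply]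
    have hr : Y.fromSpecStalk (f x) (b p) ⤳ f x := (Scheme.range_fromSpecStalk).le ⟨b p, rfl⟩
    exact hy.eq_of_specializes hr
  haveI : IsPreimmersion a := MorphismProperty.pullback_fst _ _ inferInstance
  haveI hsub : Subsingleton P :=
    ⟨fun p q => a.isEmbedding.injective ((hpt p).trans (hpt q).symm)⟩
  let h : Spec (X.presheaf.stalk x) ⟶ P :=
    pullback.lift (X.fromSpecStalk x) (Spec.map (f.stalkMap x))
      (Scheme.SpecMap_stalkMap_fromSpecStalk f).symm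
  let p₀ : P := h (IsLocalRing.closedPoint _)
  obtain ⟨_, ⟨W, hW, rfl⟩, hpW, -⟩ :=
    P.isBasis_affineOpens.exists_subset_of_mem_open (Set.mem_univ p₀) isOpen_univ
  have hWtop : W = ⊤ := top_unique fun q _ => Subsingleton.elim p₀ q ▸ hpW
  haveI : IsAffine (⊤ : P.Opens) := (hWtop ▸ hW : IsAffineOpen (⊤ : P.Opens))
  haveI : IsAffine P := IsAffine.of_isIso (Scheme.topIso P).inv
  haveI : Subsingleton (PrimeSpectrum Γ(P, ⊤)) :=
    (P.isoSpec.inv.homeomorph.injective).subsingleton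
  haveI : Nonempty (PrimeSpectrum Γ(P, ⊤)) := ⟨P.isoSpec.hom p₀⟩
  haveI : Nontrivial Γ(P, ⊤) := PrimeSpectrum.nonempty_iff_nontrivial.1 inferInstance
  haveI : IsLocalRing Γ(P, ⊤) := IsLocalRing.of_unique_max_ideal (by
    obtain ⟨m, hm⟩ := Ideal.exists_maximal Γ(P, ⊤)
    exact ⟨m, hm, fun m' hm' => congrArg PrimeSpectrum.asIdeal (Subsingleton.elim
      (⟨m', hm'.isPrime⟩ : PrimeSpectrum Γ(P, ⊤)) ⟨m, hm.isPrime⟩)⟩)
  obtain ⟨k, hk⟩ : ∃ k : P ⟶ Spec (X.presheaf.stalk x), k ≫ X.fromSpecStalk x = a := by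
    let α := P.isoSpec.inv ≫ a
    have key : ∀ z, z = x → ∀ m : Spec Γ(P, ⊤) ⟶ Spec (X.presheaf.stalk z),
        m ≫ X.fromSpecStalk z = α →
        ∃ k : P ⟶ Spec (X.presheaf.stalk x), k ≫ X.fromSpecStalk x = a := by
      rintro z rfl m hm
      exact ⟨P.isoSpec.hom ≫ m, by rw [Category.assoc, hm, Iso.hom_inv_id_assoc]⟩
    exact key (α (IsLocalRing.closedPoint _)) (hpt _) _
      (Scheme.Spec_stalkClosedPointTo_fromSpecStalk α)
  have hkb : k ≫ Spec.map (f.stalkMap x) = b := by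
    rw [← cancel_mono (Y.fromSpecStalk (f x)), Category.assoc,
      Scheme.SpecMap_stalkMap_fromSpecStalk, reassoc_of% hk, hab]
  haveI : IsIso k := ⟨h, pullback.hom_ext (by rw [Category.assoc, pullback.lift_fst, hk]; simp [a])
      (by rw [Category.assoc, pullback.lift_snd, hkb]; simp [b]),
    by rw [← cancel_mono (X.fromSpecStalk x), Category.assoc, hk]; simp [a, h]⟩
  show IsIso b
  rw [← hkb]
  infer_instance

lemma isGermInjectiveAt_of_isReduced [IsReduced Y] (hY : (irreducibleComponents ↥Y).Finite)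
    {y : Y} (hy : IsMaxPt y) : Y.IsGermInjectiveAt y := by
  let U := onlyOn hY y
  haveI : Nonempty U := ⟨⟨y, hy.mem_onlyOn⟩⟩
  haveI : IrreducibleSpace U := by
    have hU : IsPreirreducible (U : Set Y) := by
      rintro O₁ O₂ hO₁ hO₂ ⟨z₁, hz₁U, hz₁⟩ ⟨z₂, hz₂U, hz₂⟩
      have hmem : ∀ z ∈ U, y ⤳ z := fun z hz => by
        obtain ⟨y', hy', hs⟩ := exists_maxPt_specializes z
        rwa [eq_of_mem_onlyOn hz hy' hs] at hs
      exact ⟨y, hy.mem_onlyOn, (hmem z₁ hz₁U).mem_open hO₁ hz₁,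
        (hmem z₂ hz₂U).mem_open hO₂ hz₂⟩
    haveI : PreirreducibleSpace U := Subtype.preirreducibleSpace hU
    exact ⟨inferInstance⟩
  haveI : IsIntegral U := isIntegral_of_irreducibleSpace_of_isReduced _
  exact (isGermInjectiveAt_iff_of_isOpenImmersion (f := U.ι) (x := ⟨y, hy.mem_onlyOn⟩)).2 inferInstance

/-- Near a point with isomorphic local ring, an open immersion. -/
lemma exists_nhds_isIso (f : X ⟶ Y) [LocallyOfFiniteType f] {x : X} [IsIso (f.stalkMap x)]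
    (hf : LocallyOfFinitePresentation f ∨ Y.IsGermInjectiveAt (f x)) :
    ∃ (U : X.Opens) (V : Y.Opens) (i : (U : Scheme.{u}) ≅ V),
      x ∈ U ∧ f x ∈ V ∧ i.hom ≫ V.ι = U.ι ≫ f := by
  let e : X.presheaf.stalk x ≅ Y.presheaf.stalk (f x) := (asIso (f.stalkMap x)).symm
  have h0 : f.stalkMap x ≫ e.hom =
      Y.presheaf.stalkSpecializes
        (Inseparable.of_eq (rfl : f x = f x)).specializes ≫ (𝟙 Y : Y ⟶ Y).stalkMap (f x) := by
    rw [TopCat.Presheaf.stalkSpecializes_refl, Scheme.Hom.stalkMap_id]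
    simp [e]
  obtain ⟨W, hy, ψ, hψ, hψS⟩ : ∃ (W : Y.Opens) (hy : f x ∈ W) (ψ : (W : Scheme.{u}) ⟶ X),
      Spec.map e.hom ≫ X.fromSpecStalk x = W.fromSpecStalkOfMem (f x) hy ≫ ψ ∧
        ψ ≫ f = W.ι ≫ 𝟙 Y := by
    rcases hf with hf | hf
    · exact spread_out (𝟙 Y) f (rfl : (𝟙 Y : Y ⟶ Y) (f x) = f x) e.hom h0
    · exact spread_out_of_isGermInjective (𝟙 Y) f (rfl : (𝟙 Y : Y ⟶ Y) (f x) = f x) e.hom h0
  have hφ : Spec.map e.inv ≫ Y.fromSpecStalk (f x) =
      (⊤ : X.Opens).fromSpecStalkOfMem x trivial ≫ (⊤ : X.Opens).ι ≫ f := by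
    rw [Scheme.Opens.fromSpecStalkOfMem_ι_assoc]
    exact Scheme.SpecMap_stalkMap_fromSpecStalk f
  obtain ⟨U', V', hx, hy', i, hi⟩ := exists_iso_nhds f (𝟙 Y) e (U := ⊤) (show x ∈ (⊤ : X.Opens) from trivial) ((⊤ : X.Opens).ι ≫ f)
    (by rw [Category.comp_id]) hφ hy ψ hψS hψ
  exact ⟨U', V', i, hx, hy', by simpa using hi⟩

/-- Bijection on maximal points with isomorphic local rings gives a dense isomorphism. -/
theorem exists_dense_resLE (f : X ⟶ Y)
    (hY : (irreducibleComponents ↥Y).Finite)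
    (hbij : Set.BijOn (fun x : X => f.base x) {x : X | IsMaxPt x} {y : Y | IsMaxPt y})
    (hiso : ∀ x : X, IsMaxPt x → IsIso (f.stalkMap x))
    (hf : (LocallyOfFiniteType f ∧ IsReduced Y) ∨ LocallyOfFinitePresentation f) :
    ∃ (U : X.Opens) (V : Y.Opens) (hUV : U ≤ f ⁻¹ᵁ V), (∀ x, IsMaxPt x → x ∈ U) ∧
      (∀ y, IsMaxPt y → y ∈ V) ∧ IsIso (f.resLE V U hUV) := by
  haveI : LocallyOfFiniteType f := hf.elim (fun h => h.1) fun h => inferInstance
  have hloc : ∀ x : {x : X // IsMaxPt x}, ∃ (U : X.Opens) (V : Y.Opens)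
      (i : (U : Scheme.{u}) ≅ V), x.1 ∈ U ∧ f x.1 ∈ V ∧ i.hom ≫ V.ι = U.ι ≫ f := by
    rintro ⟨x, hx⟩
    haveI := hiso x hx
    refine exists_nhds_isIso f (hf.symm.imp id fun h => ?_)
    haveI := h.2
    exact isGermInjectiveAt_of_isReduced hY (hbij.mapsTo hx)
  choose U₀ V₀ i hxU hxV hi using hloc
  let V' : {x : X // IsMaxPt x} → Y.Opens := fun x => V₀ x ⊓ onlyOn hY (f x.1)
  let U' : {x : X // IsMaxPt x} → X.Opens := fun x => U₀ x ⊓ f ⁻¹ᵁ V' x
  have hle : (⨆ x, U' x) ≤ f ⁻¹ᵁ (⨆ x, V' x) :=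
    iSup_le fun x => inf_le_right.trans (f.preimage_mono (le_iSup V' x))
  have hUx : ∀ x, x.1 ∈ U' x := fun x =>
    ⟨hxU x, hxV x, (hbij.mapsTo x.2).mem_onlyOn⟩
  refine ⟨⨆ x, U' x, ⨆ x, V' x, hle,
    fun x hx => Opens.mem_iSup.2 ⟨⟨x, hx⟩, hUx ⟨x, hx⟩⟩, fun y hy => ?_, ?_⟩
  · obtain ⟨x, hx, rfl⟩ := hbij.surjOn hy
    exact Opens.mem_iSup.2 ⟨⟨x, hx⟩, hxV _, hy.mem_onlyOn⟩
  have hinj : ∀ {p q : X}, p ∈ (⨆ x, U' x) → q ∈ (⨆ x, U' x) → f p = f q → p = q := by
    intro p q hp hq hpq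
    obtain ⟨a, hpa⟩ := Opens.mem_iSup.1 hp
    obtain ⟨b, hqb⟩ := Opens.mem_iSup.1 hq
    obtain ⟨y', hy', hs⟩ := exists_maxPt_specializes (f p)
    obtain rfl : a = b := by
      refine Subtype.ext (hbij.injOn a.2 b.2 ?_)
      show f a.1 = f b.1
      rw [← eq_of_mem_onlyOn hpa.2.2 hy' hs]
      exact eq_of_mem_onlyOn hqb.2.2 hy' (hpq ▸ hs)
    have h1 : (i a).hom ⟨p, hpa.1⟩ = (i a).hom ⟨q, hqb.1⟩ := by
      refine (V₀ a).ι.isOpenEmbedding.injective ?_
      rw [← Scheme.Hom.comp_apply, hi a, Scheme.Hom.comp_apply]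
      exact hpq.trans (by rw [← Scheme.Hom.comp_apply, hi a]; rfl)
    exact congrArg Subtype.val ((i a).hom.homeomorph.injective h1)
  let g : ((⨆ x, U' x : X.Opens) : Scheme.{u}) ⟶ Y := (⨆ x, U' x : X.Opens).ι ≫ f
  have hgloc : ∀ a, IsOpenImmersion ((U' a).ι ≫ f) := fun a => by
    rw [← Scheme.homOfLE_ι X (inf_le_left : U' a ≤ U₀ a), Category.assoc, ← hi a]
    infer_instance
  haveI : ∀ p, IsIso (g.stalkMap p) := by
    intro p
    obtain ⟨a, hpa⟩ := Opens.mem_iSup.1 p.2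
    haveI := hgloc a
    haveI : IsIso (((U' a).ι ≫ f).stalkMap ⟨p.1, hpa⟩) := inferInstance
    rw [Scheme.Hom.stalkMap_comp] at this
    have hfp : IsIso (f.stalkMap p.1) :=
      @IsIso.of_isIso_comp_right _ _ _ _ _ (f.stalkMap p.1) ((U' a).ι.stalkMap ⟨p.1, hpa⟩)
        inferInstance this
    rw [Scheme.Hom.stalkMap_comp]
    exact @IsIso.comp_isIso _ _ _ _ _ _ _ hfp inferInstance
  have hopen : IsOpenMap g := by
    intro O hO
    have hO' : IsOpen ((⨆ x, U' x : X.Opens).ι '' O) :=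
      (⨆ x, U' x : X.Opens).ι.isOpenEmbedding.isOpenMap _ hO
    have : g '' O = ⋃ a, ((U' a).ι ≫ f) ''
        ((U' a).ι ⁻¹' ((⨆ x, U' x : X.Opens).ι '' O)) := by
      refine Set.Subset.antisymm ?_ (Set.iUnion_subset fun a => ?_)
      · rintro _ ⟨p, hp, rfl⟩
        obtain ⟨a, hpa⟩ := Opens.mem_iSup.1 p.2
        exact Set.mem_iUnion.2 ⟨a, ⟨p.1, hpa⟩, ⟨p, hp, rfl⟩, rfl⟩
      · rintro _ ⟨q, ⟨p, hp, hpq⟩, rfl⟩
        exact ⟨p, hp, congrArg f hpq⟩
    rw [this]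
    exact isOpen_iUnion fun a => by
      haveI := hgloc a
      exact ((U' a).ι ≫ f).isOpenEmbedding.isOpenMap _ (hO'.preimage (U' a).ι.continuous)
  haveI : IsOpenImmersion g := IsOpenImmersion.of_isIso_stalkMap g
    (.of_continuous_injective_isOpenMap g.continuous
      (fun p q h => Subtype.ext (hinj p.2 q.2 h)) hopen)
  haveI : IsOpenImmersion (f.resLE (⨆ x, V' x) (⨆ x, U' x) hle) := by
    haveI : IsOpenImmersion (f.resLE (⨆ x, V' x) (⨆ x, U' x) hle ≫ (⨆ x, V' x).ι) := by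
      rw [Scheme.Hom.resLE_comp_ι]
      exact ‹IsOpenImmersion g›
    exact IsOpenImmersion.of_comp _ (⨆ x, V' x).ι
  haveI : Surjective (f.resLE (⨆ x, V' x) (⨆ x, U' x) hle) := ⟨fun v => by
    obtain ⟨a, hva⟩ := Opens.mem_iSup.1 v.2
    obtain ⟨u, hu⟩ := (i a).hom.homeomorph.surjective ⟨v.1, hva.1⟩
    have hfu : f u.1 = v.1 := by
      show f ((U₀ a).ι u) = v.1
      rw [← Scheme.Hom.comp_apply, ← hi a, Scheme.Hom.comp_apply]
      exact congrArg Subtype.val hu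
    refine ⟨⟨u.1, Opens.mem_iSup.2 ⟨a, u.2, show f u.1 ∈ V' a from hfu.symm ▸ hva⟩⟩, ?_⟩
    refine (⨆ x, V' x).ι.isOpenEmbedding.injective ?_
    rw [← Scheme.Hom.comp_apply, Scheme.Hom.resLE_comp_ι]
    exact hfu⟩
  exact (isIso_iff_isOpenImmersion_and_epi_base _).2 ⟨inferInstance, (TopCat.epi_iff_surjective _).2 (Scheme.Hom.surjective _)⟩

/-- With a quasi-compact or separated morphism, the isomorphism holds over a dense open. -/
theorem exists_dense_morphismRestrict (f : X ⟶ Y)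
    (hY : (irreducibleComponents ↥Y).Finite)
    (hbij : Set.BijOn (fun x : X => f.base x) {x : X | IsMaxPt x} {y : Y | IsMaxPt y})
    (hiso : ∀ x : X, IsMaxPt x → IsIso (f.stalkMap x))
    (hf₁ : QuasiCompact f ∨ IsSeparated f)
    (hf₂ : (LocallyOfFiniteType f ∧ IsReduced Y) ∨ LocallyOfFinitePresentation f) :
    ∃ V : Y.Opens, Dense (V : Set Y) ∧ IsIso (f ∣_ V) := by
  obtain ⟨U, V, hUV, hU, hV, hres⟩ := exists_dense_resLE f hY hbij hiso hf₂
  have : ∃ V' : Y.Opens, V' ≤ V ∧ (∀ y, IsMaxPt y → y ∈ V') ∧ f ⁻¹ᵁ V' ≤ U := by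
    rcases hf₁ with hqc | hsep
    · let C : Set Y := closure (f '' (U : Set X)ᶜ)
      refine ⟨V ⊓ ⟨Cᶜ, isClosed_closure.isOpen_compl⟩, inf_le_left, fun y hy => ⟨hV y hy, ?_⟩,
        fun z hz => by_contra fun hzU => hz.2 (subset_closure ⟨z, hzU, rfl⟩)⟩
      intro hyC
      obtain ⟨z, hzU, hs⟩ := exists_specializes_of_mem_closure_image f U.2.isClosed_compl hyC
      obtain ⟨x, hx, rfl⟩ := hbij.surjOn hy
      haveI := hiso x hx
      have hzx : z = x := eq_of_apply_eq_maxPt f (hbij.mapsTo hx)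
        (fun x₁ h₁ h₂ => hbij.injOn h₁ hx h₂) ((hbij.mapsTo hx).eq_of_specializes hs)
      exact hzU (hzx ▸ hU x hx)
    · refine ⟨V, le_rfl, hV, ?_⟩
      haveI := hres
      let s : (V : Scheme.{u}) ⟶ (f ⁻¹ᵁ V : X.Opens) := inv (f.resLE V U hUV) ≫ X.homOfLE hUV
      have hs : s ≫ f ∣_ V = 𝟙 _ := by
        rw [← cancel_mono V.ι]
        simp [s]
      haveI : IsSeparated (f ∣_ V) := inferInstance
      haveI : IsClosedImmersion s := by
        haveI : IsClosedImmersion (s ≫ f ∣_ V) := by rw [hs]; infer_instance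
        exact IsClosedImmersion.of_comp s (f ∣_ V)
      intro z hz
      have hcl : IsClosed (Set.range s) := s.isClosedEmbedding.isClosed_range
      obtain ⟨x, hx, hxz⟩ := exists_maxPt_specializes z
      have hxV : x ∈ f ⁻¹ᵁ V := hxz.mem_open (f ⁻¹ᵁ V).2 hz
      have hxs : (⟨x, hxV⟩ : (f ⁻¹ᵁ V : X.Opens)) ∈ Set.range s := by
        refine ⟨f.resLE V U hUV ⟨x, hU x hx⟩, (f ⁻¹ᵁ V).ι.isOpenEmbedding.injective ?_⟩
        rw [← Scheme.Hom.comp_apply, ← Scheme.Hom.comp_apply]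
        simp [s]
      have hzs : (⟨z, hz⟩ : (f ⁻¹ᵁ V : X.Opens)) ∈ Set.range s :=
        ((subtype_specializes_iff _ (⟨z, hz⟩ : (f ⁻¹ᵁ V : X.Opens))).2 hxz).mem_closed hcl hxs
      obtain ⟨v, hv⟩ := hzs
      have h2 := congrArg (f ⁻¹ᵁ V).ι hv
      rw [← Scheme.Hom.comp_apply] at h2
      simp only [s, Category.assoc, Scheme.homOfLE_ι, Scheme.Hom.comp_apply] at h2
      exact (show (inv (f.resLE V U hUV) v).1 = z from h2) ▸ (inv (f.resLE V U hUV) v).2
  obtain ⟨V', hV'V, hV', hV'U⟩ := this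
  refine ⟨V', dense_of_maxPt_mem V' hV', ?_⟩
  haveI := hres
  haveI hopen : IsOpenImmersion (U.ι ≫ f) := by
    rw [← Scheme.Hom.resLE_comp_ι f hUV]
    infer_instance
  haveI : IsOpenImmersion (f ∣_ V') := by
    haveI : IsOpenImmersion (f ∣_ V' ≫ V'.ι) := by
      rw [morphismRestrict_ι, ← Scheme.homOfLE_ι X hV'U, Category.assoc]
      infer_instance
    exact IsOpenImmersion.of_comp _ V'.ι
  refine (isIso_iff_isOpenImmersion_and_epi_base _).2
    ⟨inferInstance, (TopCat.epi_iff_surjective _).2 fun v => ?_⟩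
  obtain ⟨u, hu⟩ := (f.resLE V U hUV).homeomorph.surjective ⟨v.1, hV'V v.2⟩
  have hfu : f u.1 = v.1 := by
    show f (U.ι u) = v.1
    rw [← Scheme.Hom.comp_apply, ← Scheme.Hom.resLE_comp_ι f hUV, Scheme.Hom.comp_apply]
    exact congrArg Subtype.val hu
  refine ⟨⟨u.1, show f u.1 ∈ V' from hfu.symm ▸ v.2⟩, V'.ι.isOpenEmbedding.injective ?_⟩
  rw [← Scheme.Hom.comp_apply, morphismRestrict_ι]
  exact hfu

end Groth.Agent.SpreadOut
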